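import Groth.Agent.L11.SBStable.Product
import Groth.Agent.L11.SBAut.Proj
import Groth.Agent.L11.CSA.Index
import Groth.Agent.L20.GeomFibre
import Mathlib.AlgebraicGeometry.Morphisms.LocalFlatDescent
import Mathlib.LinearAlgebra.Matrix.ToLin

/-!
# Severi–Brauer varieties of the same subgroup are stably birational
-/

set_option autoImplicit false
set_option linter.style.haveILetI false
set_option backward.isDefEq.respectTransparency false
set_option backward.isDefEq.respectTransparency.types false

universe u

open CategoryTheory CategoryTheory.Limits AlgebraicGeometry TopologicalSpace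
open scoped TensorProduct

namespace Groth.L11.SBStable

variable {k : Type u} [Field k] {X : Scheme.{u}} (f : X ⟶ Spec (CommRingCat.of k))

theorem props_of_splitting {K : Type u} [Field K] [Algebra k K] {d : ℕ} (s : BrSev.Splitting f K d) :
    IsIntegral X ∧ LocallyOfFiniteType f := by
  let g := Spec.map (CommRingCat.ofHom (algebraMap k K))
  haveI : Surjective g := ⟨fun x => ⟨IsLocalRing.closedPoint K, Subsingleton.elim _ _⟩⟩
  haveI : Flat g := inferInstance
  haveI : Nonempty (pullback f g : Scheme.{u}) := ⟨s.iso.inv (genericPoint (CohB1.ProjSpace d K))⟩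
  haveI : IsIntegral (pullback f g) := isIntegral_of_isOpenImmersion s.iso.hom
  haveI : IsReduced X := Groth.L20.isReduced_of_surjective_of_flat (pullback.fst f g)
  haveI : IrreducibleSpace X := by
    have h := (IrreducibleSpace.isIrreducible_univ (pullback f g : Scheme.{u})).image _
      (pullback.fst f g).continuous.continuousOn
    rw [Set.image_univ, (pullback.fst f g).surjective.range_eq] at h
    haveI : PreirreducibleSpace X := ⟨h.2⟩
    exact { toNonempty := ⟨pullback.fst f g (Classical.arbitrary _)⟩ }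
  refine ⟨isIntegral_of_irreducibleSpace_of_isReduced X, ?_⟩
  refine MorphismProperty.of_pullback_snd_of_descendsAlong (P := @LocallyOfFiniteType)
    (Q := @Surjective ⊓ @Flat ⊓ @QuasiCompact) (f := f) (g := g) ⟨⟨‹_›, ‹_›⟩, inferInstance⟩ ?_
  rw [show pullback.snd f g = s.iso.hom ≫ CohB1.ProjSpace.toSpec d K from s.comm.symm]
  infer_instance

variable {A : Type u} [Ring A] [Algebra k A] [Algebra.IsCentral k A] [IsSimpleRing A]

/-- A field-valued point of a Severi–Brauer variety splits the algebra. -/
theorem splits_of_pts {n : ℕ} (hn : 0 < n) (hA : Module.finrank k A = n * n)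
    (S : BrSev.SBStr k A (n * n - n) f) (L : Type u) [Field L] [Algebra k L]
    (x : BrSev.Pts f L) : Curves.Splits k A L := by
  haveI : FiniteDimensional k A := Module.finite_of_finrank_pos (by rw [hA]; exact Nat.mul_pos hn hn)
  haveI : IsSimpleRing (L ⊗[k] A) := CSA.isSimpleRing_baseChange k A L
  obtain ⟨N, hN⟩ := S.bij L x
  let V := N.toSubmodule
  have hd : Module.finrank L (L ⊗[k] A) = n * n := by rw [Module.finrank_baseChange, hA]
  have hq : Module.finrank L ((L ⊗[k] A) ⧸ V) = n * n - n := by
    have h := N.rankAtStalk_eq ⟨⊥, Ideal.isPrime_bot⟩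
    rwa [Module.rankAtStalk_eq_finrank_of_free] at h
  have hV : Module.finrank L V = n := by
    have h := Submodule.finrank_quotient_add_finrank V
    have : n ≤ n * n := Nat.le_mul_self n
    omega
  let φ : (L ⊗[k] A) →ₐ[L] Module.End L V :=
    AlgHom.ofLinearMap
      { toFun := fun a => (LinearMap.mulLeft L a).restrict (fun y hy => hN a y hy)
        map_add' := fun a b => LinearMap.ext fun y => Subtype.ext (add_mul a b (y : L ⊗[k] A))
        map_smul' := fun r a => LinearMap.ext fun y =>
          Subtype.ext (smul_mul_assoc r a (y : L ⊗[k] A)) }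
      (LinearMap.ext fun y => Subtype.ext (one_mul (y : L ⊗[k] A)))
      (fun a b => LinearMap.ext fun y => Subtype.ext (mul_assoc a b (y : L ⊗[k] A)))
  haveI : Nontrivial V := Module.nontrivial_of_finrank_pos (R := L) (by rw [hV]; exact hn)
  let ψ : (L ⊗[k] A) →ₐ[L] Matrix (Fin n) (Fin n) L :=
    (algEquivMatrix ((Module.finBasis L V).reindex (finCongr hV))).toAlgHom.comp φ
  haveI : Nonempty (Fin n) := ⟨⟨0, hn⟩⟩
  have hinj : Function.Injective ψ := RingHom.injective ψ.toRingHom
  have hfd : Module.finrank L (L ⊗[k] A) = Module.finrank L (Matrix (Fin n) (Fin n) L) := by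
    rw [hd, Module.finrank_matrix, Fintype.card_fin, Module.finrank_self, mul_one]
  have hsur : Function.Surjective ψ :=
    (LinearMap.injective_iff_surjective_of_finrank_eq_finrank hfd (f := ψ.toLinearMap)).1 hinj
  exact ⟨n, hn.ne', ⟨AlgEquiv.ofBijective ψ ⟨hinj, hsur⟩⟩⟩

variable {B : Type u} [Ring B] [Algebra k B] [Algebra.IsCentral k B] [IsSimpleRing B]

/-- The projection from the product of two Severi–Brauer varieties is birationally trivial. -/
theorem birationalOver_prod_projSpace {a b i p q : ℕ} (hp : p ≠ 0) (hq : q ≠ 0)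
    (hA : Module.finrank k A = (a + 1) * (a + 1)) (hB : Module.finrank k B = (b + 1) * (b + 1))
    (e : Matrix (Fin p) (Fin p) (CSAGal.tpow k A i) ≃ₐ[k] Matrix (Fin q) (Fin q) B)
    {Y : Scheme.{u}} (g : Y ⟶ Spec (CommRingCat.of k))
    (S : BrSev.SBStr k A ((a + 1) * (a + 1) - (a + 1)) f)
    (T : BrSev.SBStr k B ((b + 1) * (b + 1) - (b + 1)) g)
    [IsIntegral X] [LocallyOfFiniteType f] [LocallyOfFiniteType g] :
    Scheme.BirationalOver (pullback.fst f g ≫ f)
      (pullback.fst f (CohB1.ProjSpace.toSpec b k) ≫ f) := by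
  haveI : FiniteDimensional k B := Module.finite_of_finrank_pos (by rw [hB]; positivity)
  haveI : FiniteDimensional k A := Module.finite_of_finrank_pos (by rw [hA]; positivity)
  let L := X.presheaf.stalk (genericPoint X)
  let τ : k →+* L := (Spec.preimage (gen f)).hom
  letI : Field L := inferInstanceAs (Field X.functionField)
  letI : Algebra k L := τ.toAlgebra
  have hτ : Spec.map (CommRingCat.ofHom (algebraMap k L)) = gen f := Spec.map_preimage _
  have hA' : Curves.Splits k A L :=
    splits_of_pts f (Nat.succ_pos a) hA S L ⟨X.fromSpecStalk (genericPoint X), hτ.symm⟩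
  have hB' : Curves.Splits k B L :=
    Groth.L11.Br.splits_of_beq (Groth.L11.Br.BEq.symm ⟨p, q, hp, hq, ⟨e⟩⟩) L
      (Groth.L11.Idx.splits_tpow_of_splits L hA' i)
  obtain ⟨r, hr, ⟨φB⟩⟩ := hB'
  obtain rfl : r = b + 1 := by
    have h := φB.toLinearEquiv.finrank_eq
    rw [Module.finrank_baseChange, hB, Module.finrank_matrix, Module.finrank_self, Fintype.card_fin,
      mul_one] at h
    exact (Nat.mul_self_inj.1 h).symm
  obtain ⟨s⟩ := Groth.L11.SBAut.exists_splitting T φB
  have hP : IsPullback (Groth.L16.ProjSpace.map b τ) (CohB1.ProjSpace.toSpec b L)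
      (CohB1.ProjSpace.toSpec b k) (gen f) := hτ ▸ Groth.L16.ProjSpace.isPullback_map b τ
  let c : pullback g (gen f) ≅ BrSev.bc g L :=
    pullback.congrHom rfl hτ.symm
  let φ : pullback g (gen f) ≅ pullback (CohB1.ProjSpace.toSpec b k) (gen f) :=
    c ≪≫ s.iso ≪≫ hP.isoPullback
  haveI : Nonempty (pullback g (gen f) : Scheme.{u}) :=
    ⟨(c ≪≫ s.iso).inv (genericPoint (CohB1.ProjSpace b L))⟩
  haveI : IsIntegral (pullback g (gen f)) := isIntegral_of_isOpenImmersion (c ≪≫ s.iso).hom
  refine birationalOver_of_genericFibre f g _ φ ?_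
  simp only [φ, Iso.trans_hom, Category.assoc, IsPullback.isoPullback_hom_snd, s.comm]
  simp [c]

/-- Severi–Brauer varieties of algebras generating the same subgroup are stably birational. -/
theorem stablyBirational {a b i j p q p' q' : ℕ} (hp : p ≠ 0) (hq : q ≠ 0) (hp' : p' ≠ 0) (hq' : q' ≠ 0)
    (hA : Module.finrank k A = (a + 1) * (a + 1)) (hB : Module.finrank k B = (b + 1) * (b + 1))
    (e₁ : Matrix (Fin p) (Fin p) (CSAGal.tpow k A i) ≃ₐ[k] Matrix (Fin q) (Fin q) B)
    (e₂ : Matrix (Fin p') (Fin p') (CSAGal.tpow k B j) ≃ₐ[k] Matrix (Fin q') (Fin q') A)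
    {Y : Scheme.{u}} (g : Y ⟶ Spec (CommRingCat.of k))
    (S : BrSev.SBStr k A ((a + 1) * (a + 1) - (a + 1)) f)
    (T : BrSev.SBStr k B ((b + 1) * (b + 1) - (b + 1)) g)
    [IsIntegral X] [LocallyOfFiniteType f] [IsIntegral Y] [LocallyOfFiniteType g] :
    Scheme.BirationalOver (pullback.fst f (CohB1.ProjSpace.toSpec (b + 1) k) ≫ f)
      (pullback.fst g (CohB1.ProjSpace.toSpec (a + 1) k) ≫ g) := by
  let P : ∀ m : ℕ, CohB1.ProjSpace m k ⟶ Spec (CommRingCat.of k) := fun m => CohB1.ProjSpace.toSpec m k
  have hX : Scheme.BirationalOver (pullback.fst f g ≫ f) (pullback.fst f (P b) ≫ f) :=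
    birationalOver_prod_projSpace f hp hq hA hB e₁ g S T
  have hY : Scheme.BirationalOver (pullback.fst g f ≫ g) (pullback.fst g (P a) ≫ g) :=
    birationalOver_prod_projSpace g hp' hq' hB hA e₂ f T S
  haveI : ∀ m, LocallyOfFiniteType (P m) := fun m =>
    inferInstanceAs (LocallyOfFiniteType (CohB1.ProjSpace.toSpec m k))
  have h1 := birationalOver_prod_right f _ (P (b + 1)) (birationalOver_projProd k b 1)
  have h2 := birationalOver_assoc f (P b) (P 1)
  have h3 := birationalOver_prod_left (P 1) _ _
    ((hX.symm.trans (birationalOver_symm_prod f g)).trans hY)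
  have h4 := birationalOver_assoc g (P a) (P 1)
  have h5 := birationalOver_prod_right g _ (P (a + 1)) (birationalOver_projProd k a 1)
  exact (((h1.symm.trans h2).trans h3).trans h4.symm).trans h5

end Groth.L11.SBStable
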