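import Groth.Agent.L19.BiratStalk
import Groth.Agent.L05.Point.UnramFlat
import Mathlib.AlgebraicGeometry.PullbackCarrier
import Mathlib.AlgebraicGeometry.Morphisms.UniversallyOpen
import Mathlib.AlgebraicGeometry.Noetherian

/-!
# Birationality from isomorphic generic fibres

For an integral base `X` over a field, two products `X × Y`, `X × Y'` whose generic fibres over `X`
are isomorphic are birational.
-/

set_option autoImplicit false
set_option linter.style.haveILetI false
set_option backward.isDefEq.respectTransparency false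
set_option backward.isDefEq.respectTransparency.types false

universe u

open CategoryTheory CategoryTheory.Limits AlgebraicGeometry TopologicalSpace

namespace Groth.L11.SBStable

theorem range_fromSpecStalk_genericPoint (X : Scheme.{u}) [IsIntegral X] :
    Set.range (X.fromSpecStalk (genericPoint X)) = {genericPoint X} := by
  rw [Scheme.range_fromSpecStalk]
  ext y
  exact ⟨fun h => (h.antisymm (genericPoint_specializes y)).eq, fun h => h ▸ specializes_rfl⟩

variable {k : Type u} [Field k] {X Y : Scheme.{u}} [IsIntegral X]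
  (p : X ⟶ Spec (CommRingCat.of k)) (g : Y ⟶ Spec (CommRingCat.of k))

/-- The structure morphism of the generic point. -/
noncomputable abbrev gen : Spec (X.presheaf.stalk (genericPoint X)) ⟶ Spec (CommRingCat.of k) :=
  X.fromSpecStalk (genericPoint X) ≫ p

/-- The generic fibre of `X × Y` over `X`, mapped to `X × Y`. -/
noncomputable def genIncl : pullback g (gen p) ⟶ pullback p g :=
  pullback.lift (pullback.snd g (gen p) ≫ X.fromSpecStalk (genericPoint X)) (pullback.fst g (gen p))
    (by rw [Category.assoc, ← pullback.condition])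

@[reassoc]
theorem genIncl_over : genIncl p g ≫ pullback.fst p g ≫ p = pullback.snd g (gen p) ≫ gen p := by
  rw [genIncl, pullback.lift_fst_assoc, Category.assoc]

theorem isPullback_genIncl :
    IsPullback (genIncl p g) (pullback.snd g (gen p)) (pullback.fst p g)
      (X.fromSpecStalk (genericPoint X)) := by
  have hs : IsPullback (pullback.snd p g) (pullback.fst p g) g p :=
    (IsPullback.of_hasPullback p g).flip
  have ho : IsPullback (genIncl p g ≫ pullback.snd p g) (pullback.snd g (gen p)) g
      (X.fromSpecStalk (genericPoint X) ≫ p) := by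
    rw [genIncl, pullback.lift_snd]
    exact IsPullback.of_hasPullback g (gen p)
  exact IsPullback.of_right ho (by rw [genIncl, pullback.lift_fst]) hs

theorem isPreimmersion_genIncl : IsPreimmersion (genIncl p g) :=
  MorphismProperty.of_isPullback (isPullback_genIncl p g).flip inferInstance

theorem flat_genIncl : Flat (genIncl p g) :=
  haveI := Groth.L05.Point.flat_fromSpecStalk (genericPoint X)
  MorphismProperty.of_isPullback (isPullback_genIncl p g).flip inferInstance

theorem isIso_stalkMap_genIncl (x : (pullback g (gen p) : Scheme.{u})) :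
    IsIso ((genIncl p g).stalkMap x) := by
  haveI := isPreimmersion_genIncl p g
  haveI := flat_genIncl p g
  rw [ConcreteCategory.isIso_iff_bijective]
  refine ⟨?_, (genIncl p g).stalkMap_surjective x⟩
  have hf : ((genIncl p g).stalkMap x).hom.Flat := (Flat.iff_flat_stalkMap _).mp inferInstance x
  algebraize [((genIncl p g).stalkMap x).hom]
  haveI : IsLocalHom (algebraMap ((pullback p g).presheaf.stalk (genIncl p g x))
      ((pullback g (gen p)).presheaf.stalk x)) :=
    inferInstanceAs (IsLocalHom ((genIncl p g).stalkMap x).hom)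
  haveI : Module.Flat ((pullback p g).presheaf.stalk (genIncl p g x))
      ((pullback g (gen p)).presheaf.stalk x) := hf
  haveI : Module.FaithfullyFlat ((pullback p g).presheaf.stalk (genIncl p g x))
      ((pullback g (gen p)).presheaf.stalk x) := Module.FaithfullyFlat.of_flat_of_isLocalHom
  exact FaithfulSMul.algebraMap_injective ((pullback p g).presheaf.stalk (genIncl p g x))
    ((pullback g (gen p)).presheaf.stalk x)

theorem mem_range_genIncl {z : (pullback p g : Scheme.{u})}
    (hz : pullback.fst p g z = genericPoint X) : z ∈ Set.range (genIncl p g) := by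
  have h := isPullback_genIncl p g
  obtain ⟨w, hw⟩ : genericPoint X ∈ Set.range (X.fromSpecStalk (genericPoint X)) := by
    rw [range_fromSpecStalk_genericPoint]; rfl
  obtain ⟨x, hx, -⟩ := Scheme.Pullback.exists_preimage_pullback (f := pullback.fst p g)
    (g := X.fromSpecStalk (genericPoint X)) z w (hz.trans hw.symm)
  refine ⟨h.isoPullback.inv x, ?_⟩
  rw [← Scheme.Hom.comp_apply, h.isoPullback_inv_fst, hx]

theorem universallyOpen_over_field [LocallyOfFiniteType g] : UniversallyOpen g := by
  haveI : LocallyOfFinitePresentation g := inferInstance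
  haveI : Flat g := inferInstance
  infer_instance

/-- The generic point of the generic fibre is dense in `X × Y`. -/
theorem genIncl_genericPoint_mem [LocallyOfFiniteType g] [IsIntegral (pullback g (gen p))]
    (W : (pullback p g).Opens) (hW : (W : Set (pullback p g : Scheme.{u})).Nonempty) :
    genIncl p g (genericPoint (pullback g (gen p) : Scheme.{u})) ∈ W := by
  haveI := universallyOpen_over_field g
  have ho : IsOpen (pullback.fst p g '' (W : Set (pullback p g : Scheme.{u}))) :=
    (pullback.fst p g).isOpenMap _ W.2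
  obtain ⟨z, hzW, hz⟩ := (genericPoint_specializes _).mem_open ho (hW.image _).choose_spec
  obtain ⟨x, hx⟩ := mem_range_genIncl p g hz
  exact (genericPoint_specializes x).mem_open ((genIncl p g).continuous.isOpen_preimage _ W.2)
    (show genIncl p g x ∈ W from hx ▸ hzW)

theorem irreducible_prod [LocallyOfFiniteType g] [IsIntegral (pullback g (gen p))] :
    IrreducibleSpace (pullback p g : Scheme.{u}) := by
  haveI : PreirreducibleSpace (pullback p g : Scheme.{u}) := ⟨fun U V hU hV hU' hV' => by
    obtain ⟨u, -, hu⟩ := hU'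
    obtain ⟨v, -, hv⟩ := hV'
    exact ⟨_, Set.mem_univ _, genIncl_genericPoint_mem p g ⟨U, hU⟩ ⟨u, hu⟩,
      genIncl_genericPoint_mem p g ⟨V, hV⟩ ⟨v, hv⟩⟩⟩
  exact { toNonempty := ⟨genIncl p g (genericPoint (pullback g (gen p) : Scheme.{u}))⟩ }

variable {Y' : Scheme.{u}} (g' : Y' ⟶ Spec (CommRingCat.of k))

/-- Products over an integral base with isomorphic generic fibres are birational. -/
theorem birationalOver_of_genericFibre [LocallyOfFiniteType p] [LocallyOfFiniteType g]
    [LocallyOfFiniteType g'] [IsIntegral (pullback g (gen p))]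
    (φ : pullback g (gen p) ≅ pullback g' (gen p))
    (hφ : φ.hom ≫ pullback.snd g' (gen p) = pullback.snd g (gen p)) :
    Scheme.BirationalOver (pullback.fst p g ≫ p) (pullback.fst p g' ≫ p) := by
  haveI : IsIntegral (pullback g' (gen p)) :=
    haveI : Nonempty (pullback g' (gen p) : Scheme.{u}) :=
      ⟨φ.hom (genericPoint (pullback g (gen p) : Scheme.{u}))⟩
    isIntegral_of_isOpenImmersion φ.inv
  haveI := irreducible_prod p g
  haveI := irreducible_prod p g'
  haveI : IsLocallyNoetherian (pullback p g) :=
    LocallyOfFiniteType.isLocallyNoetherian (pullback.fst p g ≫ p)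
  haveI : IsLocallyNoetherian (pullback p g') :=
    LocallyOfFiniteType.isLocallyNoetherian (pullback.fst p g' ≫ p)
  let ξ := genericPoint (pullback g (gen p) : Scheme.{u})
  haveI := isIso_stalkMap_genIncl p g ξ
  haveI := isIso_stalkMap_genIncl p g' (φ.hom ξ)
  let e : (pullback p g).presheaf.stalk (genIncl p g ξ) ≅
      (pullback p g').presheaf.stalk (genIncl p g' (φ.hom ξ)) :=
    asIso ((genIncl p g).stalkMap ξ) ≪≫ (asIso (φ.hom.stalkMap ξ)).symm ≪≫
      (asIso ((genIncl p g').stalkMap (φ.hom ξ))).symm
  have he : Spec.map e.inv ≫ (pullback p g').fromSpecStalk (genIncl p g' (φ.hom ξ)) =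
      Spec.map (inv ((genIncl p g).stalkMap ξ)) ≫ (pullback g (gen p)).fromSpecStalk ξ ≫
        φ.hom ≫ genIncl p g' := by
    simp only [e, Iso.trans_inv, Iso.symm_inv, asIso_hom, asIso_inv, Spec.map_comp, Category.assoc,
      Scheme.SpecMap_stalkMap_fromSpecStalk, Scheme.SpecMap_stalkMap_fromSpecStalk_assoc]
  have hZ : Spec.map (inv ((genIncl p g).stalkMap ξ)) ≫ (pullback g (gen p)).fromSpecStalk ξ ≫
      genIncl p g = (pullback p g).fromSpecStalk (genIncl p g ξ) := by
    rw [← Scheme.SpecMap_stalkMap_fromSpecStalk, ← Spec.map_comp_assoc, IsIso.hom_inv_id,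
      Spec.map_id, Category.id_comp]
  have hX : (Spec.map e.inv ≫ (pullback p g').fromSpecStalk (genIncl p g' (φ.hom ξ))) ≫
      (pullback.fst p g' ≫ p) =
      (pullback p g).fromSpecStalk (genIncl p g ξ) ≫ (pullback.fst p g ≫ p) := by
    rw [he, ← hZ]
    simp only [Category.assoc, genIncl_over, reassoc_of% hφ]
  have hY : (Spec.map e.hom ≫ (pullback p g).fromSpecStalk (genIncl p g ξ)) ≫
      (pullback.fst p g ≫ p) =
      (pullback p g').fromSpecStalk (genIncl p g' (φ.hom ξ)) ≫ (pullback.fst p g' ≫ p) := by
    rw [Category.assoc, ← hX, Category.assoc, ← Spec.map_comp_assoc, Iso.inv_hom_id, Spec.map_id,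
      Category.id_comp]
  obtain ⟨U, hx, f, hf, hfS⟩ := spread_out_of_isGermInjective' (pullback.fst p g ≫ p)
    (pullback.fst p g' ≫ p) _ hX
  obtain ⟨V, hy, h, hh, hhS⟩ := spread_out_of_isGermInjective' (pullback.fst p g' ≫ p)
    (pullback.fst p g ≫ p) _ hY
  obtain ⟨U₁, V₁, i, hxU₁, hyV₁, hi⟩ :=
    Groth.L19.BiratStalk.exists_iso_nhds _ _ e hx f hf.symm hfS hy h hh.symm hhS
  exact ⟨⟨U₁, U₁.2.dense ⟨_, hxU₁⟩, V₁, V₁.2.dense ⟨_, hyV₁⟩, i⟩, hi⟩

end Groth.L11.SBStable
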