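import Groth.Agent.L11.SBStable.Generic
import Groth.Agent.L16.ProjSpace.BaseChange
import Mathlib.AlgebraicGeometry.Birational.Birational
import Mathlib.Algebra.MvPolynomial.Equiv

/-!
# Birational maps between products over a field
-/

set_option autoImplicit false
set_option linter.style.haveILetI false
set_option backward.isDefEq.respectTransparency false
set_option backward.isDefEq.respectTransparency.types false

universe u

open CategoryTheory CategoryTheory.Limits AlgebraicGeometry TopologicalSpace

namespace Groth.L11.SBStable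

variable {k : Type u} [Field k] {X Y Y' W : Scheme.{u}}
  (p : X ⟶ Spec (CommRingCat.of k)) (g : Y ⟶ Spec (CommRingCat.of k))
  (g' : Y' ⟶ Spec (CommRingCat.of k))

theorem birationalOver_of_iso {S : Scheme.{u}} {A B : Scheme.{u}} (sA : A ⟶ S) (sB : B ⟶ S)
    (e : A ≅ B) (he : e.hom ≫ sB = sA) : Scheme.BirationalOver sA sB :=
  haveI : IsDominant e.hom := inferInstance
  e.hom.birationalOver sB sA he

theorem birationalOver_symm_prod :
    Scheme.BirationalOver (pullback.fst p g ≫ p) (pullback.fst g p ≫ g) :=
  birationalOver_of_iso _ _ (pullbackSymmetry p g) (by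
    rw [← Category.assoc, pullbackSymmetry_hom_comp_fst, pullback.condition])

theorem birationalOver_assoc (h : W ⟶ Spec (CommRingCat.of k)) :
    Scheme.BirationalOver (pullback.fst p (pullback.fst g h ≫ g) ≫ p)
      (pullback.fst (pullback.fst p g ≫ p) h ≫ pullback.fst p g ≫ p) := by
  let hom : pullback p (pullback.fst g h ≫ g) ⟶ pullback (pullback.fst p g ≫ p) h :=
    pullback.lift (pullback.lift (pullback.fst _ _) (pullback.snd _ _ ≫ pullback.fst g h)
      ((pullback.condition).trans (Category.assoc _ _ _).symm))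
      (pullback.snd _ _ ≫ pullback.snd g h)
      ((pullback.lift_fst_assoc _ _ _ _).trans ((pullback.condition).trans
        ((congrArg (pullback.snd _ _ ≫ ·) pullback.condition).trans (Category.assoc _ _ _).symm)))
  let inv : pullback (pullback.fst p g ≫ p) h ⟶ pullback p (pullback.fst g h ≫ g) :=
    pullback.lift (pullback.fst _ _ ≫ pullback.fst p g)
      (pullback.lift (pullback.fst _ _ ≫ pullback.snd p g) (pullback.snd _ _)
        ((Category.assoc _ _ _).trans ((congrArg (pullback.fst _ _ ≫ ·) pullback.condition.symm).trans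
          pullback.condition)))
      ((Category.assoc _ _ _).trans ((congrArg (pullback.fst _ _ ≫ ·) pullback.condition).trans
        ((Category.assoc _ _ _).symm.trans (pullback.lift_fst_assoc _ _ _ _).symm)))
  refine birationalOver_of_iso _ _ ⟨hom, inv, ?_, ?_⟩ ?_
  · apply pullback.hom_ext
    · simp [hom, inv]
    · apply pullback.hom_ext <;> simp [hom, inv]
  · apply pullback.hom_ext
    · apply pullback.hom_ext <;> simp [hom, inv]
    · simp [hom, inv]
  · simp [hom]

/-- An open piece of a factor gives an open piece of the product. -/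
theorem birationalOver_prod_opens [LocallyOfFiniteType p] (U : Y.Opens)
    (hU : Dense (U : Set Y)) :
    Scheme.BirationalOver (pullback.fst p (U.ι ≫ g) ≫ p) (pullback.fst p g ≫ p) := by
  haveI := universallyOpen_over_field p
  let j : pullback p (U.ι ≫ g) ⟶ pullback p g :=
    pullback.map p (U.ι ≫ g) p g (𝟙 _) U.ι (𝟙 _) (by simp) (by simp)
  haveI : IsOpenImmersion j := inferInstance
  haveI : IsDominant j := by
    refine ⟨?_⟩
    have hr : Set.range j = pullback.snd p g ⁻¹' (U : Set Y) := by
      rw [Scheme.Pullback.range_map, Scheme.Opens.range_ι]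
      simp
    show Dense (Set.range j)
    rw [hr]
    exact hU.preimage (pullback.snd p g).isOpenMap
  exact j.birationalOver _ _ (by simp [j])

/-- Birational factors give birational products. -/
theorem birationalOver_prod_right [LocallyOfFiniteType p] (h : Scheme.BirationalOver g g') :
    Scheme.BirationalOver (pullback.fst p g ≫ p) (pullback.fst p g' ≫ p) := by
  obtain ⟨⟨U, hU, V, hV, i⟩, hi⟩ := h
  refine (birationalOver_prod_opens p g U hU).symm.trans
    (Scheme.BirationalOver.trans ?_ (birationalOver_prod_opens p g' V hV))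
  refine birationalOver_of_iso _ _ (asIso (pullback.map p (U.ι ≫ g) p (V.ι ≫ g') (𝟙 _) i.hom (𝟙 _)
    (by simp) (by rw [Category.comp_id]; exact Eq.symm hi))) ?_
  simp

theorem birationalOver_prod_left [LocallyOfFiniteType p] (h : Scheme.BirationalOver g g') :
    Scheme.BirationalOver (pullback.fst g p ≫ g) (pullback.fst g' p ≫ g') :=
  ((birationalOver_symm_prod g p).trans (birationalOver_prod_right p g g' h)).trans
    (birationalOver_symm_prod p g')

section Proj

open MvPolynomial Groth.L16.ProjSpace

variable (k) (a b : ℕ)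

theorem irreducible_projProd :
    IrreducibleSpace (pullback (CohB1.ProjSpace.toSpec a k) (CohB1.ProjSpace.toSpec b k) : Scheme.{u}) := by
  let τ : k →+* (CohB1.ProjSpace a k).presheaf.stalk (genericPoint (CohB1.ProjSpace a k)) :=
    (Spec.preimage (gen (CohB1.ProjSpace.toSpec a k))).hom
  have hτ : Spec.map (CommRingCat.ofHom τ) = gen (CohB1.ProjSpace.toSpec a k) := Spec.map_preimage _
  let L := (CohB1.ProjSpace a k).functionField
  have h : IsPullback (map b τ) (CohB1.ProjSpace.toSpec b L) (CohB1.ProjSpace.toSpec b k)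
      (gen (CohB1.ProjSpace.toSpec a k)) := hτ ▸ isPullback_map b τ
  haveI : Nonempty (pullback (CohB1.ProjSpace.toSpec b k) (gen (CohB1.ProjSpace.toSpec a k)) : Scheme.{u}) :=
    ⟨h.isoPullback.hom (genericPoint (CohB1.ProjSpace b L))⟩
  haveI : IsIntegral (pullback (CohB1.ProjSpace.toSpec b k) (gen (CohB1.ProjSpace.toSpec a k))) :=
    isIntegral_of_isOpenImmersion h.isoPullback.inv
  exact irreducible_prod _ _

/-- The chart of a product of two projective spaces. -/
theorem exists_chartProd :
    ∃ (e : pullback (chart a k 0 ≫ CohB1.ProjSpace.toSpec a k) (chart b k 0 ≫ CohB1.ProjSpace.toSpec b k) ≅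
      Spec (CommRingCat.of (MvPolynomial (ChartVar (a + b) 0) k))),
      e.hom ≫ chart (a + b) k 0 ≫ CohB1.ProjSpace.toSpec (a + b) k =
        pullback.fst _ _ ≫ chart a k 0 ≫ CohB1.ProjSpace.toSpec a k := by
  let P := MvPolynomial (ChartVar a 0) k
  have h := isPullback_chart_toSpec b (C : k →+* P) 0
  rw [chart_toSpec b P 0] at h
  have h' : IsPullback (Spec.map (CommRingCat.ofHom (C : P →+* MvPolynomial (ChartVar b 0) P)))
      (Spec.map (CommRingCat.ofHom (MvPolynomial.map (C : k →+* P) :
        MvPolynomial (ChartVar b 0) k →+* MvPolynomial (ChartVar b 0) P)))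
      (chart a k 0 ≫ CohB1.ProjSpace.toSpec a k) (chart b k 0 ≫ CohB1.ProjSpace.toSpec b k) := by
    rw [chart_toSpec a k 0]
    exact h.flip
  let σ : ChartVar b 0 ⊕ ChartVar a 0 ≃ ChartVar (a + b) 0 := Fintype.equivOfCardEq (by simp; omega)
  let E : MvPolynomial (ChartVar (a + b) 0) k ≃ₐ[k] MvPolynomial (ChartVar b 0) P :=
    (renameEquiv k σ.symm).trans (sumAlgEquiv k (ChartVar b 0) (ChartVar a 0))
  refine ⟨h'.isoPullback.symm ≪≫ Scheme.Spec.mapIso E.toRingEquiv.toCommRingCatIso.op, ?_⟩
  rw [Iso.trans_hom, Iso.symm_hom, Category.assoc, Iso.inv_comp_eq, h'.isoPullback_hom_fst_assoc,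
    chart_toSpec (a + b) k 0, chart_toSpec a k 0]
  show Spec.map (CommRingCat.ofHom E.toRingEquiv.toRingHom) ≫ _ = _
  rw [← Spec.map_comp, ← Spec.map_comp]
  congr 1
  refine CommRingCat.hom_ext (RingHom.ext fun r => ?_)
  show E (C r) = C (C r)
  exact E.commutes r

/-- `ℙ^a × ℙ^b` is birational to `ℙ^{a+b}`. -/
theorem birationalOver_projProd :
    Scheme.BirationalOver
      (pullback.fst (CohB1.ProjSpace.toSpec a k) (CohB1.ProjSpace.toSpec b k) ≫ CohB1.ProjSpace.toSpec a k)
      (CohB1.ProjSpace.toSpec (a + b) k) := by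
  haveI := irreducible_projProd k a b
  obtain ⟨e, he⟩ := exists_chartProd k a b
  let j : pullback (chart a k 0 ≫ CohB1.ProjSpace.toSpec a k) (chart b k 0 ≫ CohB1.ProjSpace.toSpec b k) ⟶
      pullback (CohB1.ProjSpace.toSpec a k) (CohB1.ProjSpace.toSpec b k) :=
    pullback.map _ _ _ _ (chart a k 0) (chart b k 0) (𝟙 _) (by simp) (by simp)
  let z := e.inv (genericPoint (Spec (CommRingCat.of (MvPolynomial (ChartVar (a + b) 0) k))))
  haveI : IsDominant j := ⟨j.opensRange.2.dense ⟨j z, z, rfl⟩⟩
  haveI : IsDominant (e.hom ≫ chart (a + b) k 0) :=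
    ⟨(e.hom ≫ chart (a + b) k 0).opensRange.2.dense ⟨_, z, rfl⟩⟩
  refine (j.birationalOver _ (pullback.fst _ _ ≫ chart a k 0 ≫ CohB1.ProjSpace.toSpec a k) ?_).symm.trans
    ((e.hom ≫ chart (a + b) k 0).birationalOver _ _ (by rw [Category.assoc, he]))
  simp [j]

end Proj

end Groth.L11.SBStable
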